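import Mathlib
import Groth.Prelude.Def_SheafNL
import Groth.Agent.Lib.Helper2.NLFlat.Main

/-! helper5: base change of the naive cotangent complex along a cocartesian square when the
*given* algebra `R → S` is flat (S7222, part 1).  Reuses helper2's `NLFlat` and helper7's `NLBC`. -/

set_option autoImplicit false
set_option synthInstance.maxHeartbeats 400000
set_option maxHeartbeats 4000000
set_option linter.unusedVariables false
set_option linter.unusedSectionVars false
set_option linter.style.haveILetI false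

open CategoryTheory CategoryTheory.Limits TensorProduct

namespace Groth.Agent.Lib.Helper5.NLFlatB

universe u

open Algebra.Extension Groth.Agent.Helper2.NLFlat

section Abs

variable {A A' : Type*} [CommRing A] [CommRing A'] [Algebra A A']
  (I : Ideal A) (I' : Ideal A') (hI : I' = I.map (algebraMap A A'))

theorem injective_of_comm'
    {M N : Type*} [AddCommGroup M] [Module A M] [AddCommGroup N]
    (q : M →ₗ[A] A ⧸ I ^ 2) (hinj : Function.Injective (q.lTensor A'))
    (q' : N →+ A' ⧸ I' ^ 2) (θ : A' ⊗[A] M →+ N)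
    (hθ : ∀ (a' : A') (m : M), q' (θ (a' ⊗ₜ m)) = a' • psi0 I I' hI (q m)) :
    Function.Injective θ := by
  have hcomm : ∀ x : A' ⊗[A] M, q' (θ x) = Psi I I' hI (q.lTensor A' x) := by
    intro x
    induction x using TensorProduct.induction_on with
    | zero => simp
    | tmul a' m => rw [hθ, LinearMap.lTensor_tmul, Psi_tmul]
    | add x y hx hy => rw [map_add, map_add, hx, hy, map_add, map_add]
  intro x y hxy
  apply hinj
  apply Psi_injective I I' hI
  rw [← hcomm, ← hcomm, hxy]

end Abs

section Tor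

variable {R S R' : Type u} [CommRing R] [CommRing S] [Algebra R S] [CommRing R'] [Algebra R R']

/-- if `S` is flat over `R` and `B = R' ⊗_R P`, then `B ⊗_P (I/I²) → B ⊗_P (P/I²)` is injective -/
theorem lTensor_cot_injective_of_flat (P : Algebra.Extension.{u} R S) [Module.Flat R S]
    (B : Type u) [CommRing B] [Algebra P.Ring B] [Algebra R' B] [Algebra R B]
    [IsScalarTower R P.Ring B] [IsScalarTower R R' B] [Algebra.IsPushout R R' P.Ring B] :
    Function.Injective (LinearMap.lTensor B
      ((P.ker.cotangentToQuotientSquare) ∘ₗ P.cotangentEquivCotangentKer.toLinearMap)) := by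
  obtain ⟨q, hq⟩ : ∃ q : P.Cotangent →ₗ[P.Ring] P.Ring ⧸ P.ker ^ 2,
      q = (P.ker.cotangentToQuotientSquare) ∘ₗ P.cotangentEquivCotangentKer.toLinearMap :=
    ⟨_, rfl⟩
  rw [← hq]
  have hqinj : Function.Injective q := by
    rw [hq]
    exact (Ideal.cotangentToQuotientSquare_injective _).comp
      P.cotangentEquivCotangentKer.injective
  have hker : ∀ a ∈ P.ker ^ 2, (IsScalarTower.toAlgHom R P.Ring S) a = 0 := by
    intro a ha
    have h1 : a ∈ P.ker := Ideal.pow_le_self (by norm_num) ha
    exact h1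
  obtain ⟨π, hπ⟩ : ∃ π : (P.Ring ⧸ P.ker ^ 2) →ₐ[R] S,
      ∀ x : P.Ring, π (Ideal.Quotient.mk (P.ker ^ 2) x) = algebraMap P.Ring S x :=
    ⟨Ideal.Quotient.liftₐ (P.ker ^ 2) (IsScalarTower.toAlgHom R P.Ring S) hker, fun x => rfl⟩
  have hπs : Function.Surjective π.toLinearMap := by
    intro s
    obtain ⟨x, rfl⟩ := P.algebraMap_surjective s
    exact ⟨Ideal.Quotient.mk _ x, hπ x⟩
  have hex : Function.Exact (q.restrictScalars R) π.toLinearMap := by
    intro y
    obtain ⟨x, rfl⟩ := Ideal.Quotient.mk_surjective y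
    have h1 : π.toLinearMap (Ideal.Quotient.mk (P.ker ^ 2) x) = algebraMap P.Ring S x := hπ x
    rw [h1]
    constructor
    · intro hx
      have hx' : x ∈ P.ker := hx
      have h2 : Ideal.Quotient.mk (P.ker ^ 2) x ∈
          LinearMap.range P.ker.cotangentToQuotientSquare := by
        rw [Ideal.range_cotangentToQuotientSquare]
        exact Ideal.mk_mem_cotangentIdeal.mpr hx'
      obtain ⟨z, hz⟩ := h2
      refine ⟨P.cotangentEquivCotangentKer.symm z, ?_⟩
      rw [hq]
      show P.ker.cotangentToQuotientSquare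
        (P.cotangentEquivCotangentKer (P.cotangentEquivCotangentKer.symm z)) = _
      rw [LinearEquiv.apply_symm_apply, hz]
    · rintro ⟨m, hm⟩
      have h2 : Ideal.Quotient.mk (P.ker ^ 2) x ∈
          LinearMap.range P.ker.cotangentToQuotientSquare := by
        rw [← hm, hq]
        exact ⟨_, rfl⟩
      rw [Ideal.range_cotangentToQuotientSquare] at h2
      exact Ideal.mk_mem_cotangentIdeal.mp h2
  have hinjR : Function.Injective ((q.restrictScalars R).lTensor R') :=
    LinearMap.lTensor_injective_of_exact_of_flat π.toLinearMap hπs (q.restrictScalars R) hqinj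
      hex R'
  obtain ⟨cM, hcM⟩ : ∃ cM : B ⊗[P.Ring] P.Cotangent ≃ₗ[R'] R' ⊗[R] P.Cotangent,
      cM = Algebra.IsPushout.cancelBaseChange R R' P.Ring B P.Cotangent := ⟨_, rfl⟩
  obtain ⟨cN, hcN⟩ : ∃ cN : B ⊗[P.Ring] (P.Ring ⧸ P.ker ^ 2) ≃ₗ[R'] R' ⊗[R] (P.Ring ⧸ P.ker ^ 2),
      cN = Algebra.IsPushout.cancelBaseChange R R' P.Ring B (P.Ring ⧸ P.ker ^ 2) := ⟨_, rfl⟩
  have hnat : ∀ x : R' ⊗[R] P.Cotangent,
      (q.lTensor B) (cM.symm x) = cN.symm (((q.restrictScalars R).lTensor R') x) := by
    intro x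
    induction x using TensorProduct.induction_on with
    | zero => simp
    | tmul r m =>
      rw [hcM, hcN, Algebra.IsPushout.cancelBaseChange_symm_tmul, LinearMap.lTensor_tmul,
        LinearMap.lTensor_tmul, Algebra.IsPushout.cancelBaseChange_symm_tmul]
      rfl
    | add x y hx hy => rw [map_add, map_add, hx, hy, map_add, map_add]
  intro x y hxy
  have hx : x = cM.symm (cM x) := (cM.symm_apply_apply x).symm
  have hy : y = cM.symm (cM y) := (cM.symm_apply_apply y).symm
  rw [hx, hy, hnat, hnat] at hxy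
  have h3 := hinjR (cN.symm.injective hxy)
  rw [hx, hy, h3]

end Tor

section AbstractExt

variable {R S R' S' : Type u} [CommRing R] [CommRing S] [Algebra R S] [CommRing R'] [CommRing S']
  [Algebra R' S'] [Algebra R R'] [Algebra S S'] [Algebra R S'] [IsScalarTower R R' S']
  [IsScalarTower R S S']
  {P : Algebra.Extension.{u} R S} {P' : Algebra.Extension.{u} R' S'} (f : P.Hom P')

theorem lbc_cotangent_injective_of_lTensor
    [Algebra P.Ring P'.Ring] [Algebra P.Ring S'] [IsScalarTower P.Ring S S']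
    [IsScalarTower P.Ring P'.Ring S'] [Algebra.IsPushout P.Ring P'.Ring S S']
    (hfe : f.toRingHom = algebraMap P.Ring P'.Ring)
    (hI : P'.ker = P.ker.map (algebraMap P.Ring P'.Ring))
    (hinj : Function.Injective (LinearMap.lTensor P'.Ring
      ((P.ker.cotangentToQuotientSquare) ∘ₗ P.cotangentEquivCotangentKer.toLinearMap))) :
    Function.Injective (LinearMap.liftBaseChange S' (Cotangent.map f)) := by
  obtain ⟨q, hq⟩ : ∃ q : P.Cotangent →ₗ[P.Ring] P.Ring ⧸ P.ker ^ 2,
      q = (P.ker.cotangentToQuotientSquare) ∘ₗ P.cotangentEquivCotangentKer.toLinearMap :=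
    ⟨_, rfl⟩
  rw [← hq] at hinj
  obtain ⟨Q', hQ'⟩ : ∃ Q' : P'.Cotangent →ₗ[P'.Ring] P'.Ring ⧸ P'.ker ^ 2,
      Q' = (P'.ker.cotangentToQuotientSquare) ∘ₗ P'.cotangentEquivCotangentKer.toLinearMap :=
    ⟨_, rfl⟩
  obtain ⟨c, hc⟩ : ∃ c : S' ⊗[S] P.Cotangent ≃ₗ[P'.Ring] P'.Ring ⊗[P.Ring] P.Cotangent,
      c = Algebra.IsPushout.cancelBaseChange P.Ring P'.Ring S S' P.Cotangent := ⟨_, rfl⟩
  have hcs : ∀ (a' : P'.Ring) (m : P.Cotangent),
      c.symm (a' ⊗ₜ m) = algebraMap P'.Ring S' a' ⊗ₜ m := by
    intro a' m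
    rw [hc]
    exact Algebra.IsPushout.cancelBaseChange_symm_tmul P.Ring P'.Ring S S' _ a' m
  have key : Function.Injective
      ((LinearMap.liftBaseChange S' (Cotangent.map f)).toAddMonoidHom.comp
        c.symm.toLinearMap.toAddMonoidHom) := by
    refine injective_of_comm' (A := P.Ring) (A' := P'.Ring) P.ker P'.ker hI
      q hinj Q'.toAddMonoidHom _ ?_
    intro a' m
    obtain ⟨x, rfl⟩ := Cotangent.mk_surjective m
    have e1 : ((LinearMap.liftBaseChange S' (Cotangent.map f)).toAddMonoidHom.comp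
        c.symm.toLinearMap.toAddMonoidHom) (a' ⊗ₜ Cotangent.mk x) =
        a' • Cotangent.mk ⟨f.toAlgHom x, Helper7.NLBC.map_ker_le f
          (Ideal.mem_map_of_mem _ x.2)⟩ := by
      show LinearMap.liftBaseChange S' (Cotangent.map f) (c.symm (a' ⊗ₜ Cotangent.mk x)) = _
      rw [hcs, LinearMap.liftBaseChange_tmul, Cotangent.map_mk, algebraMap_smul]
    rw [e1]
    show Q' (a' • _) = _
    rw [map_smul]
    congr 1
    rw [hQ', hq]
    show Ideal.Quotient.mk (P'.ker ^ 2) (f.toAlgHom x.1) =
      psi0 _ _ hI (Ideal.Quotient.mk (P.ker ^ 2) x.1)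
    rw [psi0_mk, ← hfe]
    rfl
  intro x y hxy
  have hx : x = c.symm (c x) := (c.symm_apply_apply x).symm
  have hy : y = c.symm (c y) := (c.symm_apply_apply y).symm
  have h3 : c x = c y := by
    apply key
    show LinearMap.liftBaseChange S' (Cotangent.map f) (c.symm (c x)) =
      LinearMap.liftBaseChange S' (Cotangent.map f) (c.symm (c y))
    rw [← hx, ← hy]
    exact hxy
  exact c.injective h3

end AbstractExt

variable (R S R' S' : Type u) [CommRing R] [CommRing S] [CommRing R'] [CommRing S']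
  [Algebra R S] [Algebra R' S'] [Algebra R R'] [Algebra S S'] [Algebra R S']
  [IsScalarTower R R' S'] [IsScalarTower R S S']
  {ι : Type u} (G : Algebra.Generators R S ι) (G' : Algebra.Generators R' S' ι)
  (h : ∀ i, G'.val i = algebraMap S S' (G.val i))

attribute [local instance] MvPolynomial.algebraMvPolynomial in
theorem liftBaseChange_cotangent_injective' [Algebra.IsPushout R R' S S'] [Module.Flat R S] :
    Function.Injective (LinearMap.liftBaseChange S'
      (Cotangent.map (NLCx.sameVarsHom G G' h).toExtensionHom)) := by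
  letI : Algebra G.Ring S' := ((algebraMap S S').comp (algebraMap G.Ring S)).toAlgebra
  haveI : IsScalarTower G.Ring S S' := IsScalarTower.of_algebraMap_eq' rfl
  haveI t2 : IsScalarTower G.Ring G'.Ring S' := by
    refine IsScalarTower.of_algebraMap_eq (fun x => ?_)
    have := (NLCx.sameVarsHom G G' h).toExtensionHom.algebraMap_toRingHom x
    rw [Helper7.NLBC.toRingHom_eq_map] at this
    exact this.symm
  haveI : Algebra.IsPushout R S R' S' := Algebra.IsPushout.symm inferInstance
  haveI hpo : Algebra.IsPushout G.Ring S G'.Ring S' :=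
    (Algebra.IsPushout.comp_iff R G.Ring R' G'.Ring (T := S) (T' := S')).mp inferInstance
  haveI hpo' : Algebra.IsPushout G.Ring G'.Ring S S' := Algebra.IsPushout.symm hpo
  haveI hpoR : Algebra.IsPushout R R' G.Ring G'.Ring :=
    Algebra.IsPushout.symm (inferInstance : Algebra.IsPushout R G.Ring R' G'.Ring)
  obtain ⟨f, hf⟩ : ∃ f, f = (NLCx.sameVarsHom G G' h).toExtensionHom := ⟨_, rfl⟩
  rw [← hf]
  have hfe : f.toRingHom = algebraMap G.Ring G'.Ring := by
    rw [hf]
    exact RingHom.ext (fun x => Helper7.NLBC.toRingHom_eq_map R S R' S' G G' h x)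
  have hI : G'.toExtension.ker = G.toExtension.ker.map (algebraMap G.Ring G'.Ring) := by
    rw [← hfe]
    refine le_antisymm ?_ (Helper7.NLBC.map_ker_le f)
    rw [hf]
    exact Helper7.NLBC.ker_le_map R S R' S' G G' h
  letI a1 : Algebra G.toExtension.Ring G'.toExtension.Ring :=
    (MvPolynomial.algebraMvPolynomial : Algebra G.Ring G'.Ring)
  letI a2 : Algebra G.toExtension.Ring S' :=
    ((algebraMap S S').comp (algebraMap G.Ring S)).toAlgebra
  letI a3 : Algebra R G'.toExtension.Ring := (inferInstance : Algebra R G'.Ring)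
  haveI t1' : IsScalarTower G.toExtension.Ring S S' := IsScalarTower.of_algebraMap_eq' rfl
  haveI t2' : IsScalarTower G.toExtension.Ring G'.toExtension.Ring S' := t2
  haveI t3 : IsScalarTower R G.toExtension.Ring G'.toExtension.Ring :=
    (inferInstance : IsScalarTower R G.Ring G'.Ring)
  haveI t4 : IsScalarTower R R' G'.toExtension.Ring :=
    (inferInstance : IsScalarTower R R' G'.Ring)
  haveI p1 : Algebra.IsPushout G.toExtension.Ring G'.toExtension.Ring S S' := hpo'
  haveI p2 : Algebra.IsPushout R R' G.toExtension.Ring G'.toExtension.Ring := hpoR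
  have hinj := lTensor_cot_injective_of_flat (R' := R') G.toExtension G'.toExtension.Ring
  exact lbc_cotangent_injective_of_lTensor f hfe hI hinj

theorem part1_iso' [Algebra.IsPushout R R' S S'] [Module.Flat R S] :
    IsIso (NLCx.bcMap (S' := S') (NLCx.sameVarsHom G G' h).toExtensionHom) := by
  haveI i0 : IsIso (ModuleCat.ofHom (LinearMap.liftBaseChange S'
      (Cotangent.map (NLCx.sameVarsHom G G' h).toExtensionHom))) :=
    (ConcreteCategory.isIso_iff_bijective _).mpr
      ⟨liftBaseChange_cotangent_injective' R S R' S' G G' h,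
        Helper7.NLBC.liftBaseChange_cotangent_surjective _
          (Helper7.NLBC.ker_le_map R S R' S' G G' h)⟩
  haveI i1 : IsIso (ModuleCat.ofHom (LinearMap.liftBaseChange S'
      (CotangentSpace.map (NLCx.sameVarsHom G G' h).toExtensionHom))) :=
    (ConcreteCategory.isIso_iff_bijective _).mpr
      (Helper7.NLBC.liftBaseChange_cotangentSpace_bijective R S R' S' G G' h)
  unfold NLCx.bcMap
  refine Helper7.NLLoc.isIso_mkHomFromDouble _ _ _ ?_ _ _ _ _
  intro k h0 h1
  exact HomologicalComplex.isZero_double_X _ _ k h0 h1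

theorem part2_he' [Algebra.IsPushout R R' S S'] [Module.Flat R S] :
    ∃ e : HomotopyEquiv (NLCx.bcCx (Algebra.Generators.self R S).toExtension S')
        (NLCx.cx (Algebra.Generators.self R' S').toExtension),
      e.hom = NLCx.bcMapSelf R S R' S' := by
  obtain ⟨G₁, hG₁⟩ : ∃ G₁, G₁ = Helper7.NLBC.genBC R S R' S' := ⟨_, rfl⟩
  have hval : ∀ s, G₁.val s = algebraMap S S' ((Algebra.Generators.self R S).val s) := by
    intro s
    rw [hG₁]
    exact Helper7.NLBC.genBC_val R S R' S' s
  obtain ⟨u, hu⟩ : ∃ u, u =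
      (NLCx.sameVarsHom (Algebra.Generators.self R S) G₁ hval).toExtensionHom := ⟨_, rfl⟩
  obtain ⟨v, hv⟩ : ∃ v, v =
      (G₁.defaultHom (Algebra.Generators.self R' S')).toExtensionHom := ⟨_, rfl⟩
  obtain ⟨w, hw⟩ : ∃ w, w =
      ((Algebra.Generators.self R' S').defaultHom G₁).toExtensionHom := ⟨_, rfl⟩
  haveI hU : IsIso (NLCx.bcMap (S' := S') u) := by
    rw [hu]
    exact part1_iso' R S R' S' _ G₁ hval
  have H1 : Homotopy (NLCx.bcMapSelf R S R' S') (NLCx.bcMap (S' := S') u ≫ NLCx.map v) :=
    (homotopyBcMap _ (v.comp u)).trans (Homotopy.ofEq (bcMap_comp u v))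
  have H2 : Homotopy (NLCx.map v ≫ NLCx.map w) (𝟙 _) := homotopyCompId v w
  have H3 : Homotopy (NLCx.map w ≫ NLCx.map v) (𝟙 _) := homotopyCompId w v
  refine ⟨{ hom := NLCx.bcMapSelf R S R' S'
            inv := NLCx.map w ≫ inv (NLCx.bcMap (S' := S') u)
            homotopyHomInvId := ?_
            homotopyInvHomId := ?_ }, rfl⟩
  · have h1 := H1.compRight (NLCx.map w ≫ inv (NLCx.bcMap (S' := S') u))
    have h2 := (H2.compRight (inv (NLCx.bcMap (S' := S') u))).compLeft
      (NLCx.bcMap (S' := S') u)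
    refine h1.trans ((Homotopy.ofEq ?_).trans (h2.trans (Homotopy.ofEq ?_)))
    · simp only [Category.assoc]
    · simp
  · have h1 := H1.compLeft (NLCx.map w ≫ inv (NLCx.bcMap (S' := S') u))
    refine h1.trans ((Homotopy.ofEq ?_).trans H3)
    simp

/-- S7222, first part -/
theorem quasiIso_bcMapSelf [Algebra.IsPushout R R' S S'] [Module.Flat R S] :
    QuasiIso (NLCx.bcMapSelf R S R' S') := by
  obtain ⟨e, he⟩ := part2_he' R S R' S'
  rw [← he]
  infer_instance

end Groth.Agent.Lib.Helper5.NLFlatB
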