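import Mathlib
import Groth.Prelude.Def_SheafNL
import Groth.Agent.Lib.Helper5.NLFlatB.Inj
import Groth.Agent.Lib.Helper5.TorAmp.PerfAmp
import Groth.Agent.Lib.Helper5.TorAmp.TorDim
import Groth.Agent.Lib.Helper5.TorAmp.Tri
import Groth.Agent.Lib.Helper5.EvHom.EvTenM
import Groth.Agent.Lib.Helper5.KFlat.LBCFlat
import Groth.Agent.Lib.Helper5.DRing.FlatBC

/-! helper5: S7222, second part: derived base change of `NL_{B/A}` when `B` is flat over `A` and
`NL_{B/A}` has tor amplitude in `[-1, 0]`. -/

set_option autoImplicit false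
set_option synthInstance.maxHeartbeats 400000
set_option maxHeartbeats 4000000
set_option linter.unusedVariables false
set_option linter.unusedSectionVars false
set_option linter.style.haveILetI false

universe u
open CategoryTheory CategoryTheory.Limits TensorProduct Pretriangulated DerivedCategory
attribute [local instance] HasDerivedCategory.standard

namespace Groth.Agent.Lib.Helper5.NLFlatB

open Groth.Agent.Helper5.TorAmp Groth.Agent.S2067 Groth.Agent.Helper5.FlatBC

section FlatTerm

variable {B : Type u} [CommRing B]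

/-- a complex concentrated in `[-1, 0]` with flat degree-zero term and tor amplitude in `[-1, 0]`
has flat degree `-1` term -/
theorem flat_X_neg_one (C : DRing.Cx B) (hC : DRing.VanishesOutside C (-1) 0)
    (h0 : Module.Flat B (C.X 0))
    (h : DRing.HasTorAmplitudeIn B (-1) 0 (DRing.toD C)) : Module.Flat B (C.X (-1)) := by
  obtain ⟨T, hT, h1, h2, ⟨e3⟩⟩ := exists_trunc_triangle C (-1) (fun i hi => hC i (Or.inl hi))
  have hCflat : ∀ i : ℤ, 0 ≤ i → Module.Flat B (C.X i) := by
    intro i hi
    by_cases h0' : i = 0
    · subst h0'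
      exact h0
    · haveI : Subsingleton (C.X i) :=
        ModuleCat.subsingleton_of_isZero (hC i (Or.inr (by omega)))
      infer_instance
  have hA1 : DRing.HasTorAmplitudeIn B (-1 + 1) (0 + 1) T.obj₁ := by
    rw [h1]
    refine ⟨trunc C (-1 + 1), ?_, ?_, ⟨Iso.refl _⟩⟩
    · intro i hi
      rcases hi with hi | hi
      · exact trunc_isZero C (-1 + 1) i hi
      · haveI := truncι_isIso C (-1 + 1) i (by omega)
        exact (hC i (Or.inr (by omega))).of_iso (asIso ((truncι C (-1 + 1)).f i))
    · intro i
      by_cases hi : i < -1 + 1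
      · haveI : Subsingleton ((trunc C (-1 + 1)).X i) :=
          ModuleCat.subsingleton_of_isZero (trunc_isZero C (-1 + 1) i hi)
        infer_instance
      · haveI := truncι_isIso C (-1 + 1) i (by omega)
        haveI := hCflat i (by omega)
        exact Module.Flat.of_linearEquiv (asIso ((truncι C (-1 + 1)).f i)).toLinearEquiv
  have hA2 : DRing.HasTorAmplitudeIn B (-1) 0 T.obj₂ := by
    rw [h2]
    exact h
  have hA3 := (hasTorAmplitudeIn_of_distTriang (-1) 0 T hT).1 hA1 hA2
  have hA3' := hasTorAmplitudeIn_of_iso e3 hA3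
  have hs := hasTorAmplitudeIn_shift hA3' (-1) 0 1 (by norm_num) (by norm_num)
  have e := ((singleFunctors (ModuleCat.{u} B)).shiftIso (-1) 0 (-1) (by omega)).app (C.X (-1))
  have h00 := hasTorAmplitudeIn_of_iso e hs
  have h000 := hasTorAmplitudeIn_trim (b' := 0) h00
  exact flat_of_hasTorAmplitudeIn_single _ h000

end FlatTerm

section BCDouble

variable {S : Type u} [CommRing S] (S' : Type u) [CommRing S'] [Algebra S S']
  {M N : Type u} [AddCommGroup M] [Module S M] [AddCommGroup N] [Module S N] (g : M →ₗ[S] N)

theorem rel01 : (ComplexShape.up ℤ).Rel (-1) 0 := by simp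

/-- the comparison of `S' ⊗ -` with `extendScalars`, as an isomorphism of modules -/
noncomputable def eqvIso (M : Type u) [AddCommGroup M] [Module S M] :
    ModuleCat.of S' (S' ⊗[S] M) ≅ (Ef S').obj (ModuleCat.of S M) :=
  (eqv S' (ModuleCat.of S M)).toModuleIso

/-- naturality of the comparison of `S' ⊗ -` with `extendScalars` -/
theorem eqv_nat :
    (eqvIso S' M).hom ≫ (Ef S').map (ModuleCat.ofHom g) =
      ModuleCat.ofHom (g.baseChange S') ≫ (eqvIso S' N).hom := by
  ext x
  induction x using TensorProduct.induction_on with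
  | zero => simp
  | tmul s m => rfl
  | add x y hx hy => rw [map_add, map_add, hx, hy]

/-- the comparison of the two-term complex of the base-changed map with the termwise extension
of scalars of the two-term complex -/
noncomputable def bcDoubleHom :
    HomologicalComplex.double (ModuleCat.ofHom (g.baseChange S')) rel01 ⟶
      (Ec S').obj (HomologicalComplex.double (ModuleCat.ofHom g) rel01) :=
  HomologicalComplex.mkHomFromDouble _ (by decide)
    ((eqvIso S' M).hom ≫
      (Ef S').map (HomologicalComplex.doubleXIso₀ (ModuleCat.ofHom g) rel01).inv)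
    ((eqvIso S' N).hom ≫
      (Ef S').map (HomologicalComplex.doubleXIso₁ (ModuleCat.ofHom g) rel01 (by decide)).inv)
    (by
      rw [Category.assoc]
      show _ ≫ (Ef S').map _ ≫ (Ef S').map ((HomologicalComplex.double _ _).d (-1) 0) = _
      rw [HomologicalComplex.double_d _ _ (by decide), ← Functor.map_comp,
        Iso.inv_hom_id_assoc, Functor.map_comp, ← Category.assoc, eqv_nat, Category.assoc]
      rfl)
    (by
      intro k hk
      show _ ≫ (Ef S').map ((HomologicalComplex.double _ _).d 0 k) = 0
      rw [HomologicalComplex.double_d_eq_zero₀ _ _ 0 k (by decide), Functor.map_zero, comp_zero])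

instance instIsIsoBcDoubleHom : IsIso (bcDoubleHom S' g) := by
  haveI i0 : IsIso ((eqvIso S' M).hom ≫
      (Ef S').map (HomologicalComplex.doubleXIso₀ (ModuleCat.ofHom g) rel01).inv) :=
    IsIso.comp_isIso' inferInstance (Functor.map_isIso _ _)
  haveI i1 : IsIso ((eqvIso S' N).hom ≫
      (Ef S').map (HomologicalComplex.doubleXIso₁ (ModuleCat.ofHom g) rel01 (by decide)).inv) :=
    IsIso.comp_isIso' inferInstance (Functor.map_isIso _ _)
  unfold bcDoubleHom
  exact @Groth.Agent.Helper7.NLLoc.isIso_mkHomFromDouble _ _ _ _ _ _ _ _ _ _ _ _ _ _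
    (fun k h0 h1 => Functor.map_isZero (Ef S') (HomologicalComplex.isZero_double_X _ _ k h0 h1))
    _ _ i0 i1 _ _

end BCDouble

section Final

variable (A B A' B' : Type u) [CommRing A] [CommRing B] [CommRing A'] [CommRing B']
  [Algebra A B] [Algebra A' B'] [Algebra A A'] [Algebra B B'] [Algebra A B']
  [IsScalarTower A A' B'] [IsScalarTower A B B']

theorem vanishesOutside_NLcx : DRing.VanishesOutside (LCI.NLcx A B) (-1) 0 := by
  intro i hi
  exact HomologicalComplex.isZero_double_X _ _ i (by omega) (by omega)

theorem flat_NLcx_zero : Module.Flat B ((LCI.NLcx A B).X 0) := by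
  haveI : Module.Free B (Algebra.Generators.self A B).toExtension.CotangentSpace :=
    Module.Free.of_basis (Algebra.Generators.self A B).cotangentSpaceBasis
  haveI : Module.Flat B
      (ModuleCat.of B (Algebra.Generators.self A B).toExtension.CotangentSpace) :=
    (inferInstance : Module.Flat B (Algebra.Generators.self A B).toExtension.CotangentSpace)
  exact Module.Flat.of_linearEquiv
    (HomologicalComplex.doubleXIso₁ (ModuleCat.ofHom
      (Algebra.Generators.self A B).toExtension.cotangentComplex) rel01 (by decide)).toLinearEquiv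

theorem isKFlat_NLcx (hT : DRing.HasTorAmplitudeIn B (-1) 0 (LCI.NL A B)) :
    DRing.IsKFlat B (LCI.NLcx A B) := by
  have hC := vanishesOutside_NLcx A B
  have h0 := flat_NLcx_zero A B
  have h1 := flat_X_neg_one (LCI.NLcx A B) hC h0 hT
  refine Groth.Agent.Lib.Helper5.EvHom.isKFlat_of_bounded_flat (LCI.NLcx A B) (-1) 0 hC ?_
  intro i
  by_cases hi0 : i = 0
  · subst hi0
    exact h0
  · by_cases hi1 : i = -1
    · subst hi1
      exact h1
    · haveI : Subsingleton ((LCI.NLcx A B).X i) :=
        ModuleCat.subsingleton_of_isZero (hC i (by omega))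
      infer_instance

/-- S7222, second part -/
theorem nonempty_lbc_iso [Algebra.IsPushout A A' B B'] [Module.Flat A B]
    (hT : DRing.HasTorAmplitudeIn B (-1) 0 (LCI.NL A B))
    [DRing.HasLBaseChange (algebraMap B B')] :
    Nonempty ((DRing.LBaseChange (algebraMap B B')).obj (LCI.NL A B) ≅ LCI.NL A' B') := by
  have hK := isKFlat_NLcx A B hT
  have e1 := Groth.Agent.Lib.Helper5.KFlat.lbcIsoFlat (algebraMap B B') (LCI.NLcx A B) hK
  have hiso : IsIso (bcDoubleHom B' (Algebra.Generators.self A B).toExtension.cotangentComplex) :=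
    instIsIsoBcDoubleHom B' _
  have e2' := @asIso _ _ _ _ _ hiso
  have e2 : NLCx.bcCx (Algebra.Generators.self A B).toExtension B' ≅
      (Ec B').obj (LCI.NLcx A B) := e2'
  haveI := quasiIso_bcMapSelf A B A' B'
  have e3 : DRing.toD (NLCx.bcCx (Algebra.Generators.self A B).toExtension B') ≅
      DRing.toD (NLCx.cx (Algebra.Generators.self A' B').toExtension) :=
    asIso (DerivedCategory.Q.map (NLCx.bcMapSelf A B A' B'))
  exact ⟨e1 ≪≫ (DerivedCategory.Q.mapIso e2).symm ≪≫ e3⟩

end Final

end Groth.Agent.Lib.Helper5.NLFlatB
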